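import Mathlib

/-!
# Non-abelian composition factors as simple quotients of subnormal subgroups (helper817, for S4247)

`AllCF Q G` : every simple non-abelian factor group of a subnormal subgroup of `G` satisfies `Q`.
-/

set_option autoImplicit false

namespace Cfsg.Agent.H817.DPi

open Subgroup

universe u

/-- every simple non-abelian factor group of a subnormal subgroup satisfies `Q` -/
def AllCF (Q : ∀ (X : Type u) [Group X], Prop) (G : Type u) [Group G] : Prop :=
  ∀ M : Subgroup G, M.IsSubnormal → ∀ (X : Type u) [Group X] [Finite X] [IsSimpleGroup X], ¬ IsMulCommutative X →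
    ∀ f : M →* X, Function.Surjective f → Q X

variable {Q : ∀ (X : Type u) [Group X], Prop}

namespace AllCF

/-- surjective images -/
theorem of_surj {G H : Type u} [Group G] [Group H] (h : AllCF Q G) (φ : G →* H) (hφ : Function.Surjective φ) :
    AllCF Q H := by
  intro M hM X _ _ _ hna f hf
  have hle : (M.comap φ).map φ ≤ M := map_comap_le φ M
  let g : M.comap φ →* M := φ.subgroupComap M
  refine h (M.comap φ) (hM.comap φ) X hna (f.comp g) ?_
  intro x
  obtain ⟨⟨m, hm⟩, rfl⟩ := hf x
  obtain ⟨y, rfl⟩ := hφ m
  exact ⟨⟨y, hm⟩, rfl⟩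

theorem of_equiv {G H : Type u} [Group G] [Group H] (h : AllCF Q G) (e : G ≃* H) : AllCF Q H :=
  h.of_surj e.toMonoidHom e.surjective

/-- subnormal subgroups -/
theorem of_subnormal {G : Type u} [Group G] (h : AllCF Q G) (N : Subgroup G) (hN : N.IsSubnormal) : AllCF Q N := by
  intro M hM X _ _ _ hna f hf
  let e : M ≃* M.map N.subtype := M.equivMapOfInjective N.subtype N.subtype_injective
  refine h (M.map N.subtype) (hM.trans' hN) X hna (f.comp e.symm.toMonoidHom) ?_
  intro x
  obtain ⟨m, rfl⟩ := hf x
  exact ⟨e m, by simp⟩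

/-- a simple subnormal subgroup -/
theorem apply {G : Type u} [Group G] (h : AllCF Q G) (M : Subgroup G) (hM : M.IsSubnormal) {X : Type u} [Group X]
    [Finite X] [IsSimpleGroup X] (hna : ¬ IsMulCommutative X) (e : M ≃* X) : Q X :=
  h M hM X hna e.toMonoidHom e.surjective

/-- simple groups -/
theorem of_simple {T : Type u} [Group T] [IsSimpleGroup T]
    (hQ : ∀ (X : Type u) [Group X] [Finite X] [IsSimpleGroup X], ¬ IsMulCommutative X → ∀ _ : T ≃* X, Q X) :
    AllCF Q T := by
  intro M hM X _ _ _ hna f hf
  rcases hM.eq_bot_or_top_of_isSimpleGroup inferInstance with h | h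
  · subst h
    exfalso
    have h1 : Subsingleton X := hf.subsingleton
    obtain ⟨x, hx⟩ := exists_ne (1 : X)
    exact hx (Subsingleton.elim _ _)
  · subst h
    let f' : T →* X := f.comp topEquiv.symm.toMonoidHom
    have hf' : Function.Surjective f' := by
      intro x
      obtain ⟨m, rfl⟩ := hf x
      exact ⟨(m : T), rfl⟩
    have hinj : Function.Injective f' := by
      rw [← MonoidHom.ker_eq_bot_iff]
      rcases (inferInstance : f'.ker.Normal).eq_bot_or_eq_top with h | h
      · exact h
      · exfalso
        obtain ⟨x, hx⟩ := exists_ne (1 : X)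
        obtain ⟨t, rfl⟩ := hf' x
        have : t ∈ f'.ker := by rw [h]; trivial
        exact hx this
    exact hQ X hna (MulEquiv.ofBijective f' ⟨hinj, hf'⟩)

/-- groups without non-commuting elements -/
theorem of_comm {G : Type u} [Group G] (hG : ∀ x y : G, x * y = y * x) : AllCF Q G := by
  intro M hM X _ _ _ hna f hf
  exfalso
  apply hna
  refine ⟨⟨fun x y => ?_⟩⟩
  obtain ⟨a, rfl⟩ := hf x
  obtain ⟨b, rfl⟩ := hf y
  rw [← map_mul, ← map_mul]
  congr 1
  exact Subtype.ext (hG a b)

/-- extensions -/
theorem ext {G : Type u} [Group G] (N : Subgroup G) [N.Normal] (h1 : AllCF Q N) (h2 : AllCF Q (G ⧸ N)) :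
    AllCF Q G := by
  intro M hM X _ _ _ hna f hf
  have hK : ((N.subgroupOf M).map f).Normal := Normal.map inferInstance f hf
  rcases hK.eq_bot_or_eq_top with h | h
  · -- factors through `G / N`
    let q : G →* G ⧸ N := QuotientGroup.mk' N
    let g : M →* M.map q := q.subgroupMap M
    have hg : Function.Surjective g := q.subgroupMap_surjective M
    have hker : g.ker ≤ f.ker := by
      intro x hx
      have h3 : q x = 1 := congrArg Subtype.val hx
      have h4 : (x : G) ∈ N := (QuotientGroup.eq_one_iff (x : G)).1 h3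
      have h5 : f x ∈ (N.subgroupOf M).map f := ⟨x, h4, rfl⟩
      rw [h] at h5
      exact h5
    refine h2 (M.map q) (hM.map (QuotientGroup.mk'_surjective N)) X hna (g.liftOfSurjective hg ⟨f, hker⟩) ?_
    intro x
    obtain ⟨m, rfl⟩ := hf x
    exact ⟨g m, MonoidHom.liftOfRightInverse_comp_apply _ _ _ ⟨f, hker⟩ m⟩
  · let j : M.subgroupOf N →* N.subgroupOf M :=
      { toFun := fun x => ⟨⟨(x : N), x.2⟩, (x : N).2⟩
        map_one' := rfl
        map_mul' := fun _ _ => rfl }
    refine h1 (M.subgroupOf N) hM.subgroupOf X hna (f.comp ((N.subgroupOf M).subtype.comp j)) ?_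
    intro x
    have hx : x ∈ (N.subgroupOf M).map f := by rw [h]; trivial
    obtain ⟨y, hy, rfl⟩ := hx
    exact ⟨⟨⟨(y : G), hy⟩, y.2⟩, rfl⟩

/-- extensions, with a homomorphism -/
theorem ext_hom {G H : Type u} [Group G] [Group H] (φ : G →* H) (hφ : Function.Surjective φ) (h1 : AllCF Q φ.ker)
    (h2 : AllCF Q H) : AllCF Q G :=
  ext φ.ker h1 (h2.of_equiv (QuotientGroup.quotientKerEquivOfSurjective φ hφ).symm)

/-- direct products -/
theorem pi : ∀ {m : ℕ} (T : Fin m → Type u) [∀ i, Group (T i)] (_ : ∀ i, AllCF Q (T i)), AllCF Q (∀ i, T i) := by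
  intro m
  induction m with
  | zero =>
    intro T _ _
    exact of_comm fun x y => Subsingleton.elim _ _
  | succ m ih =>
    intro T _ h
    have h1 := ih (fun i => T i.succ) (fun i => h i.succ)
    let φ : (∀ i, T i) →* T 0 := Pi.evalMonoidHom T 0
    have hφ : Function.Surjective φ := by
      classical
      intro x
      exact ⟨Pi.mulSingle 0 x, Pi.mulSingle_eq_same 0 x⟩
    refine ext_hom φ hφ ?_ (h 0)
    let e : (∀ i : Fin m, T i.succ) ≃* φ.ker :=
      { toFun := fun x => ⟨Fin.cons 1 x, by
          rw [MonoidHom.mem_ker]; rfl⟩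
        invFun := fun y i => (y : ∀ i, T i) i.succ
        left_inv := fun x => by
          funext i
          rfl
        right_inv := fun y => by
          apply Subtype.ext
          funext i
          refine Fin.cases ?_ (fun j => rfl) i
          have : φ y = 1 := y.2
          exact this.symm
        map_mul' := fun x y => by
          apply Subtype.ext
          funext i
          refine Fin.cases ?_ (fun j => rfl) i
          show (1 : T 0) = 1 * 1
          rw [one_mul] }
    exact h1.of_equiv e

end AllCF

end Cfsg.Agent.H817.DPi
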