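import Cfsg.Agent.H817.PD.RowRed
import Cfsg.Agent.H817.DPi.Def
import Cfsg.Agent.H817.DPi.Fac

/-!
# Products of two π-decomposable groups: the composition factors (helper817, for S4247)

`all_cls` : `G = (LA × KA)(LB × KB)`, `2 ∉ π`: every non-abelian composition factor of `G` satisfies `Cls π`, from the
rows `DPi.Row π S` (and the rows of S4246).
-/

set_option autoImplicit false
set_option linter.unusedSectionVars false
set_option linter.unusedVariables false

namespace Cfsg.Agent.H817.DPi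

open Subgroup Cfsg Cfsg.Agent.H988.CPi Cfsg.Agent.H571.RV Cfsg.Agent.H803.S74 Cfsg.Agent.H817.PD

universe u

variable {π : Set ℕ}

theorem nilHall_of_pi' {X : Type u} [Group X] [Finite X] (h : PiN' π (Nat.card X)) : NilHall π X := by
  refine ⟨⊥, ⟨?_, ?_⟩, ?_⟩
  · have : PiN π (Nat.card (⊥ : Subgroup X)) := by rw [card_bot]; exact PiN.one
    exact this
  · have : PiN' π (⊥ : Subgroup X).index := by rw [index_bot]; exact h
    exact this
  · infer_instance

theorem nilHall_of_equiv {X Y : Type u} [Group X] [Group Y] [Finite X] (e : X ≃* Y) (h : NilHall π X) : NilHall π Y := by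
  obtain ⟨H, hH, hn⟩ := h
  refine ⟨H.map e.toMonoidHom, ⟨?_, ?_⟩, ?_⟩
  · have h1 : PiN π (Nat.card (H.map e.toMonoidHom)) := by
      rw [card_map_of_injective e.injective]; exact hH.1
    exact h1
  · have h1 : PiN' π (H.map e.toMonoidHom).index := PiN'.of_dvd hH.2 (index_map_dvd _ e.surjective)
    exact h1
  · exact Group.nilpotent_of_mulEquiv (H.equivMapOfInjective e.toMonoidHom e.injective)

theorem two_of_equiv {r s : ℕ} {X Y : Type u} [Group X] [Group Y] (e : X ≃* Y) (h : Two π r s X) : Two π r s Y := by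
  intro l hl hlp hd
  rw [← Nat.card_congr e.toEquiv] at hd
  exact h l hl hlp hd

theorem rankOne_of_equiv {p : ℕ} {X Y : Type u} [Group X] [Group Y] (e : X ≃* Y) (h : RankOne p X) : RankOne p Y := by
  rcases h with ⟨F, i1, i2, i3, h1, ⟨f⟩⟩ | ⟨F, i1, i2, i3, q, h1, h2, ⟨f⟩⟩ | ⟨hp, h1⟩
  · exact Or.inl ⟨F, i1, i2, i3, h1, ⟨e.symm.trans f⟩⟩
  · exact Or.inr (Or.inl ⟨F, i1, i2, i3, q, h1, h2, ⟨e.symm.trans f⟩⟩)
  · refine Or.inr (Or.inr ⟨hp, ?_⟩)
    obtain ⟨K, i1, i2, m, h2, h3, ⟨f⟩⟩ := h1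
    exact ⟨K, i1, i2, m, h2, h3, ⟨e.symm.trans f⟩⟩

theorem lx_of_equiv {X Y : Type u} [Group X] [Group Y] (e : X ≃* Y) (h : LX π X) : LX π Y := by
  rcases h with ⟨p, hp, hpp, h1⟩ | ⟨⟨f⟩⟩ | ⟨⟨f⟩, h1⟩ | ⟨⟨f⟩, h1⟩ | ⟨⟨f⟩, h1⟩
  · exact Or.inl ⟨p, hp, hpp, rankOne_of_equiv e h1⟩
  · exact Or.inr (Or.inl ⟨e.symm.trans f⟩)
  · exact Or.inr (Or.inr (Or.inl ⟨⟨e.symm.trans f⟩, two_of_equiv e h1⟩))
  · exact Or.inr (Or.inr (Or.inr (Or.inl ⟨⟨e.symm.trans f⟩, two_of_equiv e h1⟩)))
  · exact Or.inr (Or.inr (Or.inr (Or.inr ⟨⟨e.symm.trans f⟩, two_of_equiv e h1⟩)))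

theorem cls_of_equiv {X Y : Type u} [Group X] [Group Y] [Finite X] (e : X ≃* Y) (h : Cls π X) : Cls π Y :=
  h.elim (fun h => Or.inl (nilHall_of_equiv e h)) fun h => Or.inr (lx_of_equiv e h)

/-- the non-abelian composition factors, for all factorisations -/
def CF (π : Set ℕ) (n : ℕ) : Prop :=
  ∀ (X : Type u) [Group X] [Finite X], Nat.card X < n → ∀ LA KA LB KB : Subgroup X, PD π LA KA LB KB →
    AllCF.{u} (Cls π) X

variable {G : Type u} [Group G] [Finite G] {LA KA LB KB : Subgroup G}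

theorem sup_sub {Z : Subgroup G} (h : PD π LA KA LB KB) (ih : CF.{u} π (Nat.card G)) (hZ : Z ≠ ⊤) (h1 : LA ≤ Z)
    (h2 : KA ≤ Z) : AllCF.{u} (Cls π) Z :=
  ih Z (card_lt_of_ne_top hZ) _ _ _ _ (h.sub h1 h2)

theorem of_sub {Z T : Subgroup G} (hZ : AllCF.{u} (Cls π) Z) (hTZ : T ≤ Z) (hT : T.IsSubnormal)
    (hs : IsSimpleGroup T) (hna : ¬ IsMulCommutative T) : Cls π T :=
  hZ.apply (T.subgroupOf Z) hT.subgroupOf hna (subgroupOfEquivOfLe hTZ)

/-- equality of the decompositions modulo `N` -/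
theorem quot_eq2 (h : PD π LA KA LB KB) {N : Subgroup G} [N.Normal] (h1 : LB ⊔ KB ⊔ N = ⊤) :
    LA ≤ LB ⊔ N ∧ KA ≤ KB ⊔ N := by
  have hq := h.quot N
  set q := QuotientGroup.mk' N with hqd
  set la := LA.map q
  set ka := KA.map q
  set lb := LB.map q
  set kb := KB.map q
  have hker : ∀ X : Subgroup G, (X.map q).comap q = X ⊔ N := by
    intro X
    rw [comap_map_eq, hqd, QuotientGroup.ker_mk']
  have hmapN : N.map q = ⊥ := by
    rw [Subgroup.map_eq_bot_iff, hqd, QuotientGroup.ker_mk']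
  have e1 : lb ⊔ kb = ⊤ := by
    have := congrArg (Subgroup.map q) h1
    rw [Subgroup.map_sup, Subgroup.map_sup, hmapN, sup_bot_eq,
      map_top_of_surjective q (QuotientGroup.mk'_surjective N)] at this
    exact this
  have key : ∀ x : G ⧸ N, (∃ c ∈ lb, ∃ d ∈ kb, x = c * d ∧ orderOf c ∣ orderOf x ∧ orderOf d ∣ orderOf x) := by
    intro x
    have hx : x ∈ lb ⊔ kb := by rw [e1]; exact mem_top x
    obtain ⟨c, hc, d, hd, rfl⟩ := (mem_sup_comm hq.cb).1 hx
    obtain ⟨h2, h3⟩ := split hq.lb hq.kb hq.cb hc hd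
    exact ⟨c, hc, d, hd, rfl, orderOf_dvd_of_mem_zpowers h2, orderOf_dvd_of_mem_zpowers h3⟩
  have e2 : la ≤ lb := by
    intro x hx
    obtain ⟨c, hc, d, hd, hx', h2, h3⟩ := key x
    have h4 : orderOf d = 1 := by
      apply eq_one_of_both (π := π)
      · exact hq.la.of_dvd (h3.trans (Subgroup.orderOf_dvd_natCard la hx))
      · exact hq.kb.of_dvd (Subgroup.orderOf_dvd_natCard kb hd)
    rw [orderOf_eq_one_iff] at h4
    rw [hx', h4, mul_one]
    exact hc
  have e3 : ka ≤ kb := by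
    intro x hx
    obtain ⟨c, hc, d, hd, hx', h2, h3⟩ := key x
    have h4 : orderOf c = 1 := by
      apply eq_one_of_both (π := π)
      · exact hq.lb.of_dvd (Subgroup.orderOf_dvd_natCard lb hc)
      · exact hq.ka.of_dvd (h2.trans (Subgroup.orderOf_dvd_natCard ka hx))
    rw [orderOf_eq_one_iff] at h4
    rw [hx', h4, one_mul]
    exact hd
  refine ⟨?_, ?_⟩
  · rw [← hker LB]
    exact (le_comap_map q LA).trans (comap_mono e2)
  · rw [← hker KB]
    exact (le_comap_map q KA).trans (comap_mono e3)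

/-- the configuration of S4246, if both `LA` and `LB` are non-trivial -/
theorem minCex (h : PD π LA KA LB KB) {N : Subgroup G} [hN : N.Normal]
    (hmin : ∀ M : Subgroup G, M.Normal → M ≤ N → M = ⊥ ∨ M = N)
    (hna : ¬ ∀ x ∈ N, ∀ y ∈ N, Commute x y) (hpi : ¬ PiN' π (Nat.card N))
    (hcent : Subgroup.centralizer (N : Set G) = ⊥) (hA : LA ⊔ KA ⊔ N = ⊤) (hB : LB ⊔ KB ⊔ N = ⊤)
    (hLA : LA ≠ ⊥) (hLB : LB ≠ ⊥) : MinCex π LA KA LB KB N := by
  obtain ⟨a1, a2⟩ := quot_eq2 h hB
  obtain ⟨b1, b2⟩ := quot_eq2 h.symm hA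
  refine ⟨h, hLA, hLB, hN, hmin, hna, hpi, hcent, hB, a1, ?_, ?_⟩
  · exact le_antisymm (sup_le a2 le_sup_right) (sup_le b2 le_sup_right)
  · intro Y hY h1 h2
    rcases hmin (Y ⊓ N) inferInstance inf_le_right with h3 | h3
    · exfalso
      apply hLA
      rw [eq_bot_iff, ← hcent]
      refine h1.trans ?_
      intro y hy
      rw [mem_centralizer_iff]
      intro n hn
      have h4 : n * y * n⁻¹ * y⁻¹ ∈ Y ⊓ N := by
        refine ⟨Y.mul_mem (hY.conj_mem y hy n) (Y.inv_mem hy), ?_⟩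
        have h5 := N.mul_mem hn (hN.conj_mem _ (N.inv_mem hn) y)
        have e : n * y * n⁻¹ * y⁻¹ = n * (y * n⁻¹ * y⁻¹) := by group
        rw [e]; exact h5
      rw [h3, mem_bot] at h4
      have h5 : n * y * n⁻¹ * y⁻¹ * y * n = y * n := by rw [h4, one_mul]
      have e : n * y * n⁻¹ * y⁻¹ * y * n = n * y := by group
      rw [e] at h5
      exact h5
    · have h4 : N ≤ Y := by rw [← h3]; exact inf_le_left
      rw [eq_top_iff, ← hA]
      exact sup_le (sup_le h1 h2) h4

/-- **The configuration on a simple normal subgroup.** -/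
theorem cls_simple (h2 : 2 ∉ π) (h : PD π LA KA ⊥ KB) (ih : CF.{u} π (Nat.card G)) {N : Subgroup G} [hN : N.Normal]
    (hs : IsSimpleGroup N) (hna : ¬ IsMulCommutative N) (hcent : Subgroup.centralizer (N : Set G) = ⊥)
    (hLA : LA ≤ N) (hA : KA ⊔ N = ⊤) (hB : KB ⊔ N = ⊤)
    (hrow : Row π N) : Cls π N := by
  -- the Hall subgroup
  have hHall : IsPiHall π LA := by
    have h3 := h.hall (by rw [sup_bot_eq]; exact h.la)
    rwa [sup_bot_eq] at h3
  have hHN : IsPiHall π (LA.subgroupOf N) := isPiHall_subgroupOf hHall N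
  by_cases hnil : Group.IsNilpotent (LA.subgroupOf N)
  · exact Or.inl ⟨_, hHN, hnil⟩
  right
  let Φ : G →* MulAut N := MulAut.conjNormal
  have hΦ : ∀ (g : G) (x : N), ((Φ g x : N) : G) = g * x * g⁻¹ := fun g x => MulAut.conjNormal_apply g x
  have hinn : N.map Φ = inn N := by
    ext α
    constructor
    · rintro ⟨n, hn, rfl⟩
      refine ⟨⟨n, hn⟩, ?_⟩
      ext x
      rw [hΦ, MulAut.conj_apply]
      rfl
    · rintro ⟨n, rfl⟩
      refine ⟨n, n.2, ?_⟩
      ext x
      rw [hΦ, MulAut.conj_apply]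
      rfl
  have eA : KA.map Φ ⊔ inn N = Φ.range := by
    rw [← hinn, ← Subgroup.map_sup, hA, MonoidHom.range_eq_map]
  have eB : KB.map Φ ⊔ inn N = Φ.range := by
    rw [← hinn, ← Subgroup.map_sup, hB, MonoidHom.range_eq_map]
  have hcfg : Cfg π (LA.subgroupOf N) (KA.map Φ) (KB.map Φ) := by
    refine ⟨h2, hHN, hnil, h.ka.of_dvd (card_map_dvd _ _), h.kb.of_dvd (card_map_dvd _ _), ?_, ?_, ?_⟩
    · rintro _ ⟨k, hk, rfl⟩ x hx
      apply Subtype.ext
      rw [hΦ, ← h.ca x hx k hk, mul_inv_cancel_right]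
    · rw [eA, eB]
    · intro g hg
      rw [eB] at hg
      obtain ⟨g, rfl⟩ := hg
      obtain ⟨a, ha, b, hb, c, hc, d, hd, rfl⟩ := h.prod g
      rw [mem_bot] at hc
      subst hc
      refine ⟨⟨a, hLA ha⟩, ha, Φ b, ⟨b, hb, rfl⟩, Φ d, ⟨d, hd, rfl⟩, ?_⟩
      rw [one_mul, map_mul, map_mul]
      congr 2
      ext x
      rw [hΦ, MulAut.conj_apply]
      rfl
  refine hrow _ _ _ hcfg ?_
  intro H hH hPH hKH X _ _ _ hX f hf
  set H' : Subgroup G := H.map N.subtype with hH'
  have hH'N : H' ≤ N := map_subtype_le H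
  set M : Subgroup G := normalizer (H' : Set G) with hM
  have hnt : H ≠ ⊥ := by
    rintro rfl
    have h1 : Subsingleton X := hf.subsingleton
    obtain ⟨x, hx⟩ := exists_ne (1 : X)
    exact hx (Subsingleton.elim _ _)
  have hMtop : M ≠ ⊤ := by
    intro htop
    have hn : H'.Normal := normalizer_eq_top_iff.1 htop
    have h3 : (H'.subgroupOf N).Normal := inferInstance
    have h4 : H'.subgroupOf N = H := comap_map_eq_self_of_injective N.subtype_injective H
    rw [h4] at h3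
    rcases h3.eq_bot_or_eq_top with h5 | h5
    · exact hnt h5
    · exact hH h5
  have hLM : LA ≤ M := by
    intro a ha
    have h3 : (⟨a, hLA ha⟩ : N) ∈ normalizer (H : Set N) := hPH ha
    rw [hM, mem_normalizer_iff]
    intro y
    rw [mem_normalizer_iff] at h3
    constructor
    · rintro ⟨y, hy, rfl⟩
      exact ⟨_, (h3 y).1 hy, rfl⟩
    · rintro ⟨z, hz, hzy⟩
      have hyN : y ∈ N := by
        have h6 : (z : G) ∈ N := z.2
        have h7 : a * y * a⁻¹ ∈ N := by rw [← hzy]; exact h6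
        have h8 := hN.conj_mem _ h7 a⁻¹
        have e : a⁻¹ * (a * y * a⁻¹) * a⁻¹⁻¹ = y := by group
        rwa [e] at h8
      refine ⟨⟨y, hyN⟩, (h3 ⟨y, hyN⟩).2 ?_, rfl⟩
      have : (⟨a, hLA ha⟩ : N) * ⟨y, hyN⟩ * (⟨a, hLA ha⟩ : N)⁻¹ = z := Subtype.ext hzy.symm
      rw [this]; exact hz
  have hKM : KA ≤ M := by
    intro k hk
    have h3 : Φ k ∈ stab H := hKH ⟨k, hk, rfl⟩
    rw [mem_stab] at h3
    rw [hM, mem_normalizer_iff_map_conj_eq, hH']
    conv_rhs => rw [← h3]
    rw [map_map, map_map]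
    congr 1
  have hHM : H' ≤ M := le_normalizer
  have hAll := sup_sub h ih hMtop hLM hKM
  have hsub : (H'.subgroupOf M).IsSubnormal := by
    apply Normal.isSubnormal
    exact (normal_subgroupOf_iff_le_normalizer hHM).2 le_rfl
  let e1 : H'.subgroupOf M ≃* H' := subgroupOfEquivOfLe hHM
  let e2 : H ≃* H' := H.equivMapOfInjective N.subtype N.subtype_injective
  refine hAll _ hsub X hX ((f.comp e2.symm.toMonoidHom).comp e1.toMonoidHom) ?_
  intro x
  obtain ⟨m, rfl⟩ := hf x
  refine ⟨e1.symm (e2 m), ?_⟩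
  show f (e2.symm (e1 (e1.symm (e2 m)))) = f m
  rw [MulEquiv.apply_symm_apply, MulEquiv.symm_apply_apply]

section one

variable {N : Subgroup G} [hN : N.Normal] {m : ℕ} {T : Fin m → Subgroup G} {e : N ≃* ∀ i, T i}

/-- `LB = 1` -/
theorem cls_bot (h2 : 2 ∉ π) (h : PD π LA KA ⊥ KB) (ih : CF.{u} π (Nat.card G))
    (hmin : ∀ M : Subgroup G, M.Normal → M ≤ N → M = ⊥ ∨ M = N) (hs : Sys N T e)
    (hcent : Subgroup.centralizer (N : Set G) = ⊥) (hA : LA ⊔ KA ⊔ N = ⊤) (hB : ⊥ ⊔ KB ⊔ N = ⊤)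
    (hrow : ∀ (S : Type u) [Group S] [Finite S] [IsSimpleGroup S], ¬ IsMulCommutative S → Row π S) (i : Fin m) :
    Cls π (T i) := by
  have hsi := hs.simple i
  have hnai : ¬ IsMulCommutative (T i) := by
    intro hc
    obtain ⟨a, b, hab⟩ := hs.nab i
    exact hab (mul_comm' a b)
  rw [bot_sup_eq] at hB
  have hLA : LA ≤ N := by
    obtain ⟨h3, -⟩ := quot_eq2 h (by rw [bot_sup_eq]; exact hB)
    rwa [bot_sup_eq] at h3
  have hA' : KA ⊔ N = ⊤ := by
    rw [eq_top_iff, ← hA]
    exact sup_le (sup_le (hLA.trans le_sup_right) le_sup_left) le_sup_right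
  have hHall : IsPiHall π LA := by
    have h3 := h.hall (by rw [sup_bot_eq]; exact h.la)
    rwa [sup_bot_eq] at h3
  by_cases hT : LA ⊓ T i = ⊥
  · -- `T i` is a `π'`-group
    left
    apply nilHall_of_pi'
    have h3 : IsPiHall π (LA.subgroupOf N) := isPiHall_subgroupOf hHall N
    have hTn : ((T i).subgroupOf N).Normal := (normal_subgroupOf_iff_le_normalizer (hs.le i)).2 (hs.norm i)
    have h4 := (isPiHall_subgroupOf h3 ((T i).subgroupOf N)).2
    have h5 : PiN' π ((LA.subgroupOf N).relIndex ((T i).subgroupOf N)) := h4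
    rw [relIndex_subgroupOf (hs.le i), ← inf_relIndex_right, hT, relIndex_bot_left] at h5
    exact h5
  · obtain ⟨σ, hσ⟩ := hs.exists_sigma
    obtain ⟨x, hx, hx1⟩ : ∃ x : G, x ∈ LA ⊓ T i ∧ x ≠ 1 := by
      obtain ⟨x, hx⟩ := Subgroup.ne_bot_iff_exists_ne_one.1 hT
      exact ⟨x, x.2, fun h0 => hx (Subtype.ext h0)⟩
    have hKA : ∀ k ∈ KA, σ k i = i := by
      intro k hk
      by_contra hne
      have h3 : x ∈ T (σ k i) := by
        have h4 := Sys.mem_sigma hσ (g := k) hx.2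
        rwa [← h.ca x hx.1 k hk, mul_inv_cancel_right] at h4
      have h4 := hs.disj hne h3 hx.2
      exact hx1 h4
    have hall : ∀ g : G, σ g i = i := by
      intro g
      have hg : g ∈ KA ⊔ N := by rw [hA']; trivial
      obtain ⟨k, hk, n, hn, rfl⟩ := mem_sup_of_normal_right.1 hg
      rw [map_mul, Equiv.Perm.mul_apply, Sys.sigma_of_mem hs hσ hn, hKA k hk]
    have hTn : (T i).Normal := by
      refine ⟨fun y hy g => ?_⟩
      exact (Sys.sigma_eq_iff hs hσ).1 (hall g) y hy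
    have hTN : T i = N := by
      rcases hmin (T i) hTn (hs.le i) with h3 | h3
      · exfalso
        have : Subsingleton (T i) := by rw [h3]; infer_instance
        obtain ⟨y, hy⟩ := exists_ne (1 : T i)
        exact hy (Subsingleton.elim _ _)
      · exact h3
    have hT2 : ∀ Z : Subgroup G, Z = N → ∀ _ : Finite Z, ∀ _ : IsSimpleGroup Z, ¬ IsMulCommutative Z → Cls π Z := by
      rintro Z rfl _ hsZ hnaZ
      exact cls_simple h2 h ih hsZ hnaZ hcent hLA hA' hB (hrow _ hnaZ)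
    exact hT2 (T i) hTN inferInstance hsi hnai

end one

/-- **The composition factors.** -/
theorem all_cls (h2 : 2 ∉ π)
    (hRow : ∀ (S : Type u) [Group S] [Finite S] [IsSimpleGroup S], ¬ IsMulCommutative S → H160.PD.Row S)
    (hOut : ∀ (S : Type u) [Group S] [Finite S] [IsSimpleGroup S], ¬ IsMulCommutative S → OutTwo S)
    (hrow : ∀ (S : Type u) [Group S] [Finite S] [IsSimpleGroup S], ¬ IsMulCommutative S → Row π S) :
    ∀ n : ℕ, CF.{u} π n := by
  intro n
  induction n with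
  | zero => intro X _ _ hX; omega
  | succ n ih =>
    intro G _ _ hX LA KA LB KB h
    have ih' : CF.{u} π (Nat.card G) := by
      intro Y _ _ hY
      exact ih Y (by omega)
    by_cases htop : (⊤ : Subgroup G) = ⊥
    · refine AllCF.of_comm fun x y => ?_
      have hx : ∀ z : G, z = 1 := fun z => by
        have : z ∈ (⊤ : Subgroup G) := mem_top z
        rwa [htop, mem_bot] at this
      rw [hx x, hx y]
    obtain ⟨N, hN, hN1, -, hmin⟩ := exists_minimal_normal (⊤ : Subgroup G) htop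
    have hQ : ∀ M : Subgroup G, ∀ _ : M.Normal, M ≠ ⊥ → AllCF.{u} (Cls π) (G ⧸ M) := fun M hM hM1 =>
      ih' (G ⧸ M) (card_quot_lt hM1) _ _ _ _ (h.quot M)
    refine AllCF.ext N ?_ (hQ N hN hN1)
    by_cases hab : ∀ x ∈ N, ∀ y ∈ N, Commute x y
    · exact AllCF.of_comm fun x y => Subtype.ext (hab x x.2 y y.2)
    obtain ⟨m, T, e, hm0, hs⟩ := exists_sys N hmin hab
    refine AllCF.of_equiv ?_ e.symm
    refine AllCF.pi _ fun i => ?_
    have hsi := hs.simple i
    have hnai : ¬ IsMulCommutative (T i) := by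
      intro hc
      obtain ⟨a, b, hab⟩ := hs.nab i
      exact hab (mul_comm' a b)
    have hsub := hs.subnormal i
    -- the centraliser
    by_cases hcent : Subgroup.centralizer (N : Set G) = ⊥
    swap
    · let C := Subgroup.centralizer (N : Set G)
      let q : G →* G ⧸ C := QuotientGroup.mk' C
      have h3 := (hQ C inferInstance hcent).of_subnormal ((T i).map q)
        (hsub.map (QuotientGroup.mk'_surjective C))
      have hinj : Function.Injective (q.subgroupMap (T i)) := by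
        rw [injective_iff_map_eq_one]
        intro x hx
        have h4 : q x = 1 := congrArg Subtype.val hx
        have h5 : (x : G) ∈ C := (QuotientGroup.eq_one_iff (x : G)).1 h4
        have h6 : x ∈ center (T i) := by
          rw [mem_center_iff]
          intro y
          exact Subtype.ext (mem_centralizer_iff.1 h5 y (hs.le i y.2))
        have h7 : center (T i) = ⊥ := by
          rcases (inferInstance : (center (T i)).Normal).eq_bot_or_eq_top with h8 | h8
          · exact h8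
          · exfalso
            obtain ⟨a, b, hab⟩ := hs.nab i
            have : b ∈ center (T i) := by rw [h8]; trivial
            exact hab (mem_center_iff.1 this a)
        rw [h7, mem_bot] at h6
        exact h6
      exact h3.of_equiv (MulEquiv.ofBijective _ ⟨hinj, q.subgroupMap_surjective (T i)⟩).symm
    -- proper subgroups
    have hproper : ∀ Z : Subgroup G, N ≤ Z → AllCF.{u} (Cls π) Z → AllCF.{u} (Cls π) (T i) := by
      intro Z hNZ hZ
      exact (hZ.of_subnormal ((T i).subgroupOf Z) hsub.subgroupOf).of_equiv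
        (subgroupOfEquivOfLe ((hs.le i).trans hNZ))
    by_cases hA : LA ⊔ KA ⊔ N = ⊤
    swap
    · exact hproper _ le_sup_right (sup_sub h ih' hA (le_sup_left.trans le_sup_left) (le_sup_right.trans le_sup_left))
    by_cases hB : LB ⊔ KB ⊔ N = ⊤
    swap
    · exact hproper _ le_sup_right
        (sup_sub h.symm ih' hB (le_sup_left.trans le_sup_left) (le_sup_right.trans le_sup_left))
    refine AllCF.of_simple fun X _ _ _ hX e' => cls_of_equiv e' ?_
    by_cases hpi : PiN' π (Nat.card N)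
    · left
      exact nilHall_of_pi' (hpi.of_dvd (card_dvd_of_le (hs.le i)))
    by_cases hLB : LB = ⊥
    · subst hLB
      exact cls_bot h2 h ih' hmin hs hcent hA hB hrow i
    by_cases hLA : LA = ⊥
    · subst hLA
      exact cls_bot h2 h.symm ih' hmin hs hcent hB hA hrow i
    · exfalso
      have hm := minCex h hmin hab hpi hcent hA hB hLA hLB
      exact hRow (T i) hnai _ _ _ _ _ (hm.cfg h2 hs i (hOut (T i) hnai))

end Cfsg.Agent.H817.DPi
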