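import Cfsg.Agent.H817.DPi.Main
import Cfsg.Agent.OddHalf.Known
import Cfsg.Agent.H581.DPi.Alt
import Cfsg.Agent.H191.DPi.Small
import Cfsg.Agent.H807.DPi.RowE
import Cfsg.Agent.H14.DP.RankOne
import Cfsg.Agent.H537.RV.R1Lie

/-!
# Products of two π-decomposable groups satisfy `D_π`: assembly (helper817, for S4247)

* `dom_lx` : `Dom` and `RowE` for the simple groups of the list `LX`;
* `Boxes π` : the rows which remain;
* `row_all` : the rows for all known simple groups.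
-/

set_option autoImplicit false

namespace Cfsg.Agent.H817.DPi

open Subgroup Cfsg Cfsg.Agent.H988.CPi Cfsg.Agent.H571.RV Cfsg.Agent.H571.DExt Cfsg.Agent.H817.PD

universe u

variable {π : Set ℕ}

theorem isLie_of_rankOne {p : ℕ} {X : Type u} [Group X] (h : RankOne p X) : IsLieTypeChar p X := by
  rcases h with ⟨F, i1, i2, i3, h1, f⟩ | ⟨F, i1, i2, i3, q, h1, h2, f⟩ | ⟨hp, h1⟩
  · exact Or.inl ⟨F, i1, i2, i3, 2, le_rfl, fun _ => h1, f⟩
  · exact Or.inr (Or.inr (Or.inl ⟨F, i1, i2, i3, 3, q, h1, le_rfl, fun h => h2 h.2, f⟩))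
  · exact Or.inr (Or.inr (Or.inr (Or.inr (Or.inr (Or.inr (Or.inr (Or.inr (Or.inr (Or.inr ⟨hp, h1⟩)))))))))

/-- the groups of the list -/
theorem dom_lx (h2 : 2 ∉ π) {X : Type u} [Group X] [Finite X] [IsSimpleGroup X] (h : LX π X)
    (hE : ∃ H : Subgroup X, IsPiHall π H) : Dom π X ∧ RowE π X := by
  rcases h with ⟨p, hpπ, hp, h⟩ | h | h | h | h
  · exact ⟨H14.DP.dom_rankOne h2 hp hpπ h hE, H537.RV.rowE_own h2 hp hpπ (isLie_of_rankOne h)⟩
  · exact ⟨H191.DPi.dom_small h2 hE (Or.inl h), H807.DPi.rowE_small h2 (Or.inl h)⟩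
  · exact ⟨H191.DPi.dom_small h2 hE (Or.inr (Or.inl h)), H807.DPi.rowE_small h2 (Or.inr (Or.inl h.1))⟩
  · exact ⟨H191.DPi.dom_small h2 hE (Or.inr (Or.inr (Or.inl h))), H807.DPi.rowE_small h2 (Or.inr (Or.inr (Or.inl h.1)))⟩
  · exact ⟨H191.DPi.dom_small h2 hE (Or.inr (Or.inr (Or.inr h))),
      H807.DPi.rowE_small h2 (Or.inr (Or.inr (Or.inr h.1)))⟩

/-- the remaining rows -/
structure Boxes (π : Set ℕ) : Prop where
  /-- `p ∈ π` (helper160) -/
  own : ∀ (S : Type u) [Group S] [Finite S] [IsSimpleGroup S] (p : ℕ), p.Prime → p ∈ π → IsLieTypeChar p S → Row π S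
  /-- `p ∉ π` -/
  psl : ∀ (S : Type u) [Group S] [Finite S] [IsSimpleGroup S] (p : ℕ), p.Prime → p ∉ π → IsPSLChar p S → Row π S
  psp : ∀ (S : Type u) [Group S] [Finite S] [IsSimpleGroup S] (p : ℕ), p.Prime → p ∉ π → IsPSpChar p S → Row π S
  psu : ∀ (S : Type u) [Group S] [Finite S] [IsSimpleGroup S] (p : ℕ), p.Prime → p ∉ π → IsPSUChar p S → Row π S
  om : ∀ (S : Type u) [Group S] [Finite S] [IsSimpleGroup S] (p : ℕ), p.Prime → p ∉ π →
    (IsPOmegaOddChar p S ∨ IsPOmegaPlusChar p S ∨ IsPOmegaMinusChar p S) → Row π S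
  exc : ∀ (S : Type u) [Group S] [Finite S] [IsSimpleGroup S] (p : ℕ), p.Prime → p ∉ π →
    (IsExceptionalChevChar p S ∨ IsTwistedE6D4Char p S ∨ (p = 2 ∧ Lie.IsoSuzuki S) ∨ (p = 2 ∧ Lie.Iso2F4 S) ∨
      (p = 3 ∧ Lie.IsoRee S)) → Row π S
  spor : ∀ (S : Type u) [Group S] [Finite S] [IsSimpleGroup S], (IsSporadicGroup S ∨ Lie.IsoTits S) → Row π S

/-- **All rows.** -/
theorem row_all (R : Boxes.{u} π) (S : Type u) [Group S] [Finite S] [IsSimpleGroup S] (hna : ¬ IsMulCommutative S)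
    (h : IsKnownSimple' S) : Row π S := by
  rcases Cfsg.Agent.OddHalf.Known.classify' hna h with h | ⟨p, hp, h⟩ | h | h
  · exact H581.DPi.row_alt h
  · by_cases hpπ : p ∈ π
    · exact R.own S p hp hpπ h
    · rcases h with h | h | h | h | h | h | h | h | h | h | h
      · exact R.psl S p hp hpπ h
      · exact R.psp S p hp hpπ h
      · exact R.psu S p hp hpπ h
      · exact R.om S p hp hpπ (Or.inl h)
      · exact R.om S p hp hpπ (Or.inr (Or.inl h))
      · exact R.om S p hp hpπ (Or.inr (Or.inr h))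
      · exact R.exc S p hp hpπ (Or.inl h)
      · exact R.exc S p hp hpπ (Or.inr (Or.inl h))
      · exact R.exc S p hp hpπ (Or.inr (Or.inr (Or.inl h)))
      · exact R.exc S p hp hpπ (Or.inr (Or.inr (Or.inr (Or.inl h))))
      · exact R.exc S p hp hpπ (Or.inr (Or.inr (Or.inr (Or.inr h))))
  · exact R.spor S (Or.inr h)
  · exact R.spor S (Or.inl h)

end Cfsg.Agent.H817.DPi
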