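import Cfsg.Agent.H817.PD.Final
import Cfsg.Agent.H817.DPi.TInd
import Cfsg.Agent.H207.RV.Ext
import Cfsg.Agent.H571.RV.FHallE
import Cfsg.Agent.S0205

/-!
# Products of two π-decomposable groups satisfy `D_π`: the reduction (helper817, for S4247)

* `rowE_of_nilHall` : a simple group with a nilpotent Hall `π`-subgroup satisfies `RowE π` (`2 ∉ π`);
* `dom_all` : `D_π` for `G = (LA × KA)(LB × KB)` from the rows;
* `S4247_of` : S4247 from the rows.
-/

set_option autoImplicit false
set_option linter.unusedSectionVars false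
set_option linter.unusedVariables false

namespace Cfsg.Agent.H817.DPi

open Subgroup Cfsg Cfsg.Agent.H988.CPi Cfsg.Agent.H571.RV Cfsg.Agent.H571.DExt Cfsg.Agent.H817.PD
open Cfsg.Agent.Lib.MinNormalNonabelian
open scoped Pointwise

universe u

variable {π : Set ℕ}

theorem odd_of_pi (h2 : 2 ∉ π) {n : ℕ} (h : PiN π n) : Odd n := by
  rw [← Nat.not_even_iff_odd]
  intro he
  exact h2 (h 2 Nat.prime_two he.two_dvd)

/-- **NilHall**: `RowE`. -/
theorem rowE_of_nilHall {X : Type u} [Group X] [Finite X] (h2 : 2 ∉ π) (hc : Subgroup.center X = ⊥)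
    (h : NilHall π X) : RowE π X := by
  intro hD P₀ hP₀
  obtain ⟨H, hH, hn⟩ := h
  obtain ⟨P, hle, hP⟩ := Finite.exists_le_maximal (p := IsPiSubgroup π) (a := P₀) hP₀
  have hinj : Function.Injective (MulAut.conj : X →* MulAut X) := conj_injective hc
  let e : X ≃* inn X := MonoidHom.ofInjective hinj
  have hH' : IsPiHall π (H.map e.toMonoidHom) := by
    refine ⟨?_, ?_⟩
    · have h1 : PiN π (Nat.card (H.map e.toMonoidHom)) :=
        PiN.of_dvd (π := π) (show PiN π (Nat.card H) from hH.1) (card_map_dvd _ _)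
      exact h1
    · have h1 : PiN' π (H.map e.toMonoidHom).index := PiN'.of_dvd hH.2 (index_map_dvd _ e.surjective)
      exact h1
  have hn' : Group.IsNilpotent (H.map e.toMonoidHom) :=
    Group.nilpotent_of_mulEquiv (H.equivMapOfInjective e.toMonoidHom e.injective)
  have hsol : Group.IsSolvable (P.map (QuotientGroup.mk' (inn X))) := by
    apply Cfsg.Agent.S0205.result
    exact odd_of_pi h2 (PiN.of_dvd hP.1 (card_map_dvd _ _))
  exact exists_stab hc hP.1 hle (inter_hall_of_nilpotent (inn X) hH' hn' hP hsol)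

theorem dom_of_nilHall {X : Type u} [Group X] [Finite X] (h : NilHall π X) : Dom π X := by
  obtain ⟨H, hH, hn⟩ := h
  exact dom_of_nilpotent hH hn

theorem center_eq_bot {X : Type u} [Group X] [IsSimpleGroup X] (hna : ¬ IsMulCommutative X) :
    Subgroup.center X = ⊥ := by
  rcases (inferInstance : (center X).Normal).eq_bot_or_eq_top with h | h
  · exact h
  · exfalso
    apply hna
    refine ⟨⟨fun a b => ?_⟩⟩
    have : b ∈ center X := by rw [h]; trivial
    exact mem_center_iff.1 this a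

theorem subnormal_of_minSet {G : Type u} [Group G] {N T : Subgroup G} [N.Normal] (hT : T ∈ minSet N) :
    T.IsSubnormal := by
  refine .step T N hT.1 ?_ ?_
  · exact (inferInstance : N.Normal).isSubnormal
  · exact (normal_subgroupOf_iff_le_normalizer hT.1).2 hT.2.2.1

/-- Hall subgroups of subnormal subgroups -/
theorem hall_of_subnormal {G : Type u} [Group G] [Finite G] {T : Subgroup G} (hT : T.IsSubnormal)
    {H : Subgroup G} (hH : IsPiHall π H) : IsPiHall π (H.subgroupOf T) := by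
  induction hT with
  | top =>
    exact isPiHall_subgroupOf hH ⊤
  | step T K hTK hK hN ih =>
    have h1 := isPiHall_subgroupOf ih (T.subgroupOf K)
    have h2 : PiN' π ((H.subgroupOf K).relIndex (T.subgroupOf K)) := h1.2
    rw [relIndex_subgroupOf hTK] at h2
    refine ⟨?_, h2⟩
    have h3 : PiN π (Nat.card (H.subgroupOf T)) := by
      refine PiN.of_dvd (π := π) (show PiN π (Nat.card H) from hH.1) ?_
      exact card_comap_dvd_of_injective H T.subtype T.subtype_injective
    exact h3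

/-- **The reduction of `D_π`.** -/
theorem dom_all (h2 : 2 ∉ π) (hGr : Gross.{u} π)
    (hRow : ∀ (S : Type u) [Group S] [Finite S] [IsSimpleGroup S], ¬ IsMulCommutative S → H160.PD.Row S)
    (hOut : ∀ (S : Type u) [Group S] [Finite S] [IsSimpleGroup S], ¬ IsMulCommutative S → OutTwo S)
    (hrow : ∀ (S : Type u) [Group S] [Finite S] [IsSimpleGroup S], ¬ IsMulCommutative S → Row π S)
    (hdom : ∀ (X : Type u) [Group X] [Finite X] [IsSimpleGroup X], ¬ IsMulCommutative X → LX π X →
      (∃ H : Subgroup X, IsPiHall π H) → Dom π X ∧ RowE π X) :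
    ∀ n : ℕ, ∀ (G : Type u) [Group G] [Finite G], Nat.card G < n → ∀ LA KA LB KB : Subgroup G,
      PD π LA KA LB KB → Dom π G := by
  intro n
  induction n with
  | zero => intro X _ _ hX; omega
  | succ n ih =>
    intro G _ _ hX LA KA LB KB h
    have hCF := all_cls h2 hRow hOut hrow (n + 1) G hX _ _ _ _ h
    have hgood := (h.good h2 hGr hRow hOut).2
    have hcls : ∀ T : Subgroup G, T.IsSubnormal → IsSimpleGroup T → ¬ IsMulCommutative T → Dom π T ∧ RowE π T := by
      intro T hT hs hna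
      rcases hCF.apply T hT hna (MulEquiv.refl T) with h3 | h3
      · exact ⟨dom_of_nilHall h3, rowE_of_nilHall h2 (center_eq_bot hna) h3⟩
      · exact hdom T hna h3 ⟨_, hall_of_subnormal hT hgood⟩
    by_cases htop : (⊤ : Subgroup G) = ⊥
    · refine ⟨⊥, ⟨?_, ?_⟩, fun K _ => ⟨1, ?_⟩⟩
      · have : PiN π (Nat.card (⊥ : Subgroup G)) := by rw [card_bot]; exact PiN.one
        exact this
      · have : PiN' π (⊥ : Subgroup G).index := by
          rw [← htop, index_top]; exact PiN'.one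
        exact this
      · have hK : K ≤ ⊥ := by rw [← htop]; exact le_top
        exact hK.trans bot_le
    obtain ⟨N, hN, hN1, -, hmin⟩ := exists_minimal_normal (⊤ : Subgroup G) htop
    have hQ : Dom π (G ⧸ N) := ih (G ⧸ N) (lt_of_lt_of_le (card_quot_lt hN1) (Nat.lt_succ_iff.1 hX)) _ _ _ _ (h.quot N)
    by_cases hab : ∀ x ∈ N, ∀ y ∈ N, Commute x y
    · obtain ⟨p, hp, hpN⟩ := isPGroup_of_min_abelian hN1 hmin hab
      exact H207.RV.dom_ext_pgroup N hp hpN hQ
    · obtain ⟨s1, s2, s3, s4, s5, s6⟩ := nonabelian_structure N hmin hab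
      have hna : ∀ T ∈ minSet N, ¬ IsMulCommutative T := by
        intro T hT hc
        apply hT.2.1
        rw [eq_bot_iff]
        intro z hz
        exact s5 T hT z hz fun t ht => congrArg Subtype.val (mul_comm' (⟨z, hz⟩ : T) ⟨t, ht⟩)
      refine H207.RV.dom_ext_min N hmin hab ?_ hQ ?_
      · refine H207.RV.dom_min_of_factors N hN1 hmin fun T hs _ hT => ?_
        exact (hcls T (subnormal_of_minSet hT) hs (hna T hT)).1
      · intro T hT
        exact (hcls T (subnormal_of_minSet hT) (s4 T hT) (hna T hT)).2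

/-- **S4247** from the rows -/
theorem S4247_of {G : Type u} [Group G] [Finite G] (π : Set ℕ) (hπ : ∀ p ∈ π, p.Prime ∧ p ≠ 2)
    (hGr : Gross.{u} π)
    (hRow : ∀ (S : Type u) [Group S] [Finite S] [IsSimpleGroup S], ¬ IsMulCommutative S → H160.PD.Row S)
    (hOut : ∀ (S : Type u) [Group S] [Finite S] [IsSimpleGroup S], ¬ IsMulCommutative S → OutTwo S)
    (hrow : ∀ (S : Type u) [Group S] [Finite S] [IsSimpleGroup S], ¬ IsMulCommutative S → Row π S)
    (hdom : ∀ (X : Type u) [Group X] [Finite X] [IsSimpleGroup X], ¬ IsMulCommutative X → LX π X →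
      (∃ H : Subgroup X, IsPiHall π H) → Dom π X ∧ RowE π X)
    (A B Aπ Aπ' Bπ Bπ' : Subgroup G) (hG : (A : Set G) * (B : Set G) = Set.univ)
    (hA3 : Aπ ⊔ Aπ' = A)
    (hA4 : ∀ a ∈ Aπ, ∀ b ∈ Aπ', a * b = b * a) (hA5 : Cfsg.IsPiSubgroup π Aπ)
    (hA6 : Cfsg.IsPiSubgroup {p | p.Prime ∧ p ∉ π} Aπ')
    (hB3 : Bπ ⊔ Bπ' = B)
    (hB4 : ∀ a ∈ Bπ, ∀ b ∈ Bπ', a * b = b * a) (hB5 : Cfsg.IsPiSubgroup π Bπ)
    (hB6 : Cfsg.IsPiSubgroup {p | p.Prime ∧ p ∉ π} Bπ') :
    Cfsg.IsDPiGroup π G := by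
  have h2 : 2 ∉ π := fun h => (hπ 2 h).2 rfl
  have h := pd_of π A B Aπ Aπ' Bπ Bπ' hG hA3 hA4 hA5 hA6 hB3 hB4 hB5 hB6
  exact dom_iff.2 (dom_all h2 hGr hRow hOut hrow hdom (Nat.card G + 1) G (Nat.lt_succ_self _) _ _ _ _ h)

end Cfsg.Agent.H817.DPi
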